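import Mathlib

/-!
# A pair of integral algebras is a filtered colimit of finite finitely presented pairs
-/

set_option autoImplicit false
set_option linter.style.haveILetI false
universe u

noncomputable section

namespace Groth.Agent.ColimIntPair

open CategoryTheory Limits MvPolynomial

variable (A : Type u) [CommRing A]

/-! ### quotients of polynomial rings in finitely many of the variables -/

section Quot

variable {V : Type u} (S : Finset V) (E : Set (MvPolynomial V A))

/-- the relations supported in `S` -/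
def supp : Set (MvPolynomial S A) := rename (Subtype.val : S → V) ⁻¹' E

/-- the relation ideal -/
def rel : Ideal (MvPolynomial S A) := Ideal.span (supp A S E)

/-- the quotient -/
def Q : Type u := MvPolynomial S A ⧸ rel A S E

instance : CommRing (Q A S E) := inferInstanceAs (CommRing (_ ⧸ _))
instance : Algebra A (Q A S E) := inferInstanceAs (Algebra A (_ ⧸ _))

/-- the class of a polynomial -/
def qmk : MvPolynomial S A →ₐ[A] Q A S E := Ideal.Quotient.mkₐ A _

theorem qmk_surjective : Function.Surjective (qmk A S E) := Ideal.Quotient.mk_surjective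

variable {A S E}

theorem qmk_eq_zero {p : MvPolynomial S A} : qmk A S E p = 0 ↔ p ∈ rel A S E :=
  Ideal.Quotient.eq_zero_iff_mem

theorem algHom_ext {M : Type u} [CommRing M] [Algebra A M] {f g : Q A S E →ₐ[A] M}
    (h : ∀ x, f (qmk A S E (X x)) = g (qmk A S E (X x))) : f = g :=
  Ideal.Quotient.algHom_ext A (MvPolynomial.algHom_ext h)

section Trans

variable {V' : Type u} {S' : Finset V'} {E' : Set (MvPolynomial V' A)}

/-- the transition map along a map of variables -/
def trans (ι : V → V') (hS : ∀ v ∈ S, ι v ∈ S') (hE : ∀ e ∈ E, rename ι e ∈ E') :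
    Q A S E →ₐ[A] Q A S' E' :=
  Ideal.Quotient.liftₐ _ ((qmk A S' E').comp (rename fun v : S => (⟨ι v, hS v v.2⟩ : S'))) (fun p hp => by
    have : rel A S E ≤ Ideal.comap (rename fun v : S => (⟨ι v, hS v v.2⟩ : S')) (rel A S' E') := by
      refine Ideal.span_le.2 fun q hq => Ideal.subset_span ?_
      show rename Subtype.val (rename _ q) ∈ E'
      rw [rename_rename]
      have h2 := hE _ hq
      rwa [rename_rename] at h2
    exact qmk_eq_zero.2 (this hp))

theorem trans_qmk (ι : V → V') (hS : ∀ v ∈ S, ι v ∈ S') (hE : ∀ e ∈ E, rename ι e ∈ E') (p : MvPolynomial S A) :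
    trans ι hS hE (qmk A S E p) = qmk A S' E' (rename (fun v : S => (⟨ι v, hS v v.2⟩ : S')) p) := rfl

theorem trans_X (ι : V → V') (hS : ∀ v ∈ S, ι v ∈ S') (hE : ∀ e ∈ E, rename ι e ∈ E') (v : S) :
    trans ι hS hE (qmk A S E (X v)) = qmk A S' E' (X ⟨ι v, hS v v.2⟩) := by
  rw [trans_qmk, rename_X]

end Trans

variable {M : Type u} [CommRing M] [Algebra A M]

/-- evaluation at a point killing the relations -/
def toPt (ev : V → M) (hev : ∀ e ∈ E, aeval ev e = 0) : Q A S E →ₐ[A] M :=
  Ideal.Quotient.liftₐ _ (aeval fun v : S => ev v) (fun p hp => by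
    have : rel A S E ≤ RingHom.ker (aeval fun v : S => ev v : MvPolynomial S A →ₐ[A] M).toRingHom := by
      refine Ideal.span_le.2 fun q hq => ?_
      show aeval (fun v : S => ev v) q = 0
      have := hev _ hq
      rwa [aeval_rename] at this
    exact this hp)

theorem toPt_qmk (ev : V → M) (hev : ∀ e ∈ E, aeval ev e = 0) (p : MvPolynomial S A) :
    toPt ev hev (qmk A S E p) = aeval (fun v : S => ev v) p := rfl

theorem toPt_X (ev : V → M) (hev : ∀ e ∈ E, aeval ev e = 0) (v : S) :
    toPt ev hev (qmk A S E (X v)) = ev v := by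
  rw [toPt_qmk, aeval_X]

theorem supp_finite (hE : E.Finite) : (supp A S E).Finite :=
  hE.preimage (rename_injective _ Subtype.val_injective).injOn

theorem finitePresentation (hE : E.Finite) : Algebra.FinitePresentation A (Q A S E) :=
  Algebra.FinitePresentation.quotient ⟨(supp_finite hE).toFinset, by rw [Set.Finite.coe_toFinset]; rfl⟩

theorem finite (hmon : ∀ v ∈ S, ∃ p : Polynomial A, p.Monic ∧ Polynomial.aeval (X v : MvPolynomial V A) p ∈ E) :
    Module.Finite A (Q A S E) := by
  haveI : Algebra.FiniteType A (Q A S E) := Algebra.FiniteType.of_surjective (qmk A S E) (qmk_surjective A S E)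
  haveI : Algebra.IsIntegral A (Q A S E) := ⟨fun x => by
    obtain ⟨p, rfl⟩ := qmk_surjective A S E x
    induction p using MvPolynomial.induction_on with
    | C a => rw [← algebraMap_eq, AlgHom.commutes]; exact isIntegral_algebraMap
    | add p q hp hq => rw [map_add]; exact hp.add hq
    | mul_X p v hp =>
      rw [map_mul]
      refine hp.mul ?_
      obtain ⟨g, hg, hgE⟩ := hmon v v.2
      refine ⟨g, hg, ?_⟩
      show Polynomial.aeval (qmk A S E (X v)) g = 0
      rw [Polynomial.aeval_algHom_apply, qmk_eq_zero]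
      refine Ideal.subset_span ?_
      show rename Subtype.val (Polynomial.aeval (X v : MvPolynomial S A) g) ∈ E
      rwa [← Polynomial.aeval_algHom_apply, rename_X]⟩
  exact Algebra.IsIntegral.finite

theorem algebraMap_surjective (hlin : ∀ v ∈ S, ∃ a : A, (X v : MvPolynomial V A) - C a ∈ E) :
    Function.Surjective (algebraMap A (Q A S E)) := fun x => by
  obtain ⟨p, rfl⟩ := qmk_surjective A S E x
  induction p using MvPolynomial.induction_on with
  | C a => exact ⟨a, by rw [← algebraMap_eq, AlgHom.commutes]⟩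
  | add p q hp hq =>
    obtain ⟨a, ha⟩ := hp
    obtain ⟨b, hb⟩ := hq
    exact ⟨a + b, by rw [map_add, map_add, ha, hb]⟩
  | mul_X p v hp =>
    obtain ⟨a, ha⟩ := hp
    obtain ⟨b, hb⟩ := hlin v v.2
    refine ⟨a * b, ?_⟩
    rw [map_mul, map_mul, ha]
    congr 1
    rw [← AlgHom.commutes (qmk A S E) b, algebraMap_eq, ← sub_eq_zero, ← map_sub, qmk_eq_zero, ← neg_sub, neg_mem_iff]
    refine Ideal.subset_span ?_
    show rename Subtype.val ((X v : MvPolynomial S A) - C b) ∈ E
    rwa [map_sub, rename_X, rename_C]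

end Quot

/-! ### colimits of algebras over a filtered index -/

theorem nonempty_isColimit_under {J : Type u} [SmallCategory J] [IsFiltered J] (D : J ⥤ Under (CommRingCat.of A))
    (c : Cocone D) (hs : ∀ x : c.pt.right, ∃ j y, (c.ι.app j).right y = x)
    (h0 : ∀ j (y : (D.obj j).right), (c.ι.app j).right y = 0 → ∃ (k : J) (f : j ⟶ k), (D.map f).right y = 0) :
    Nonempty (IsColimit c) := by
  have hT : IsColimit ((forget CommRingCat).mapCocone ((Under.forget _).mapCocone c)) := by
    refine Types.FilteredColimit.isColimitOf _ _ (fun x => ?_) (fun i j xi xj h => ?_)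
    · obtain ⟨j, y, hy⟩ := hs x
      exact ⟨j, y, hy.symm⟩
    · obtain ⟨k, f, g, -⟩ := IsFilteredOrEmpty.cocone_objs i j
      have h' : (c.ι.app k).right ((D.map f).right xi - (D.map g).right xj) = 0 := by
        rw [map_sub, sub_eq_zero, ← CommRingCat.comp_apply, ← CommRingCat.comp_apply, ← Under.comp_right,
          ← Under.comp_right, c.w, c.w]
        exact h
      obtain ⟨l, e, he⟩ := h0 k _ h'
      rw [map_sub, sub_eq_zero] at he
      refine ⟨l, f ≫ e, g ≫ e, ?_⟩
      show (D.map (f ≫ e)).right xi = (D.map (g ≫ e)).right xj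
      simp only [Functor.map_comp, Under.comp_right, CommRingCat.comp_apply]
      exact he
  haveI : ReflectsColimit (D ⋙ Under.forget (CommRingCat.of A)) (forget CommRingCat) :=
    reflectsColimit_of_reflectsIsomorphisms _ _
  have hR : IsColimit ((Under.forget _).mapCocone c) := isColimitOfReflects (forget CommRingCat) hT
  refine ⟨⟨fun s => Under.homMk (hR.desc ((Under.forget _).mapCocone s)) ?_,
    fun s j => Under.UnderMorphism.ext (hR.fac _ j), fun s m hm => Under.UnderMorphism.ext (hR.uniq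
      ((Under.forget _).mapCocone s) m.right fun j => congrArg (fun φ => φ.right) (hm j))⟩⟩
  obtain ⟨j⟩ : Nonempty J := IsFiltered.nonempty
  have hf : (c.ι.app j).right ≫ hR.desc ((Under.forget _).mapCocone s) = (s.ι.app j).right :=
    hR.fac ((Under.forget _).mapCocone s) j
  exact (congrArg (· ≫ hR.desc ((Under.forget _).mapCocone s)) (Under.w (c.ι.app j)).symm).trans
    ((Category.assoc _ _ _).trans ((congrArg ((D.obj j).hom ≫ ·) hf).trans (Under.w (s.ι.app j))))

/-! ### the pair -/

variable (B C : Type u) [CommRing B] [CommRing C] [Algebra A B] [Algebra A C] [Algebra B C] [IsScalarTower A B C]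
  [Algebra.IsIntegral A B] [Algebra.IsIntegral A C]

/-- variables for `B` -/
abbrev VB : Type u := {b : B // b ∉ Set.range (algebraMap A B)}

/-- variables for `C` -/
abbrev VC : Type u := {c : C // c ∉ Set.range (algebraMap B C)}

/-- evaluation of the variables in `B` -/
def evB : VB A B → B := Subtype.val

/-- evaluation of the variables in `C` -/
def evC : VB A B ⊕ VC B C → C := Sum.elim (fun b => algebraMap B C b.1) Subtype.val

variable {A B C}

/-- a monic equation -/
def pB (b : VB A B) : Polynomial A := (Algebra.IsIntegral.isIntegral (R := A) b.1).choose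

theorem pB_monic (b : VB A B) : (pB b).Monic := (Algebra.IsIntegral.isIntegral (R := A) b.1).choose_spec.1

theorem pB_eval (b : VB A B) : Polynomial.aeval b.1 (pB b) = 0 :=
  (Algebra.IsIntegral.isIntegral (R := A) b.1).choose_spec.2

/-- a monic equation -/
def pC (c : VB A B ⊕ VC B C) : Polynomial A :=
  (Algebra.IsIntegral.isIntegral (R := A) (evC A B C c)).choose

theorem pC_monic (c : VB A B ⊕ VC B C) : (pC c).Monic :=
  (Algebra.IsIntegral.isIntegral (R := A) (evC A B C c)).choose_spec.1

theorem pC_eval (c : VB A B ⊕ VC B C) : Polynomial.aeval (evC A B C c) (pC c) = 0 :=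
  (Algebra.IsIntegral.isIntegral (R := A) (evC A B C c)).choose_spec.2

variable (A B C)

/-- finitely many variables and relations -/
structure Idx : Type u where
  S : Finset (VB A B)
  T : Finset (VC B C)
  RB : Finset (MvPolynomial (VB A B) A)
  RC : Finset (MvPolynomial (VB A B ⊕ VC B C) A)
  okB : ∀ r ∈ RB, aeval (evB A B) r = 0
  okC : ∀ r ∈ RC, aeval (evC A B C) r = 0

variable {A B C}

namespace Idx

variable (i : Idx A B C)

/-- relations of the first algebra -/
def EB : Set (MvPolynomial (VB A B) A) :=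
  (fun b => Polynomial.aeval (X b : MvPolynomial (VB A B) A) (pB b)) '' ↑i.S ∪ ↑i.RB

/-- linear relations for variables with image coming from `A` -/
def lin : Set (MvPolynomial (VB A B ⊕ VC B C) A) :=
  (fun b : {b : VB A B // algebraMap B C b.1 ∈ Set.range (algebraMap A C)} =>
    (X (Sum.inl b.1) : MvPolynomial (VB A B ⊕ VC B C) A) - MvPolynomial.C b.2.choose) '' {b | b.1 ∈ i.S}

/-- variables of the second algebra -/
def SC : Finset (VB A B ⊕ VC B C) := i.S.disjSum i.T

/-- relations of the second algebra -/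
def EC : Set (MvPolynomial (VB A B ⊕ VC B C) A) :=
  rename Sum.inl '' i.EB ∪ (fun c => Polynomial.aeval (X c : MvPolynomial (VB A B ⊕ VC B C) A) (pC c)) '' ↑i.SC ∪
    i.lin ∪ ↑i.RC

theorem finite_EB : i.EB.Finite := (i.S.finite_toSet.image _).union i.RB.finite_toSet

theorem finite_EC : i.EC.Finite :=
  (((i.finite_EB.image _).union (i.SC.finite_toSet.image _)).union
    ((i.S.finite_toSet.preimage Subtype.val_injective.injOn).image _)).union i.RC.finite_toSet

theorem eval_EB : ∀ e ∈ i.EB, aeval (evB A B) e = 0 := by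
  rintro e (⟨b, -, rfl⟩ | h)
  · rw [← Polynomial.aeval_algHom_apply, aeval_X]; exact pB_eval b
  · exact i.okB e h

theorem eval_EC : ∀ e ∈ i.EC, aeval (evC A B C) e = 0 := by
  rintro e (((⟨e, he, rfl⟩ | ⟨c, -, rfl⟩) | ⟨b, -, rfl⟩) | h)
  · have h2 : aeval (evC A B C ∘ Sum.inl) e =
        ((IsScalarTower.toAlgHom A B C).comp (aeval (evB A B))) e := by
      rw [comp_aeval]; rfl
    rw [aeval_rename, h2, AlgHom.comp_apply, i.eval_EB e he, map_zero]
  · rw [← Polynomial.aeval_algHom_apply, aeval_X]; exact pC_eval c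
  · rw [map_sub, aeval_X, aeval_C, b.2.choose_spec]; exact sub_self _
  · exact i.okC e h

/-- the first algebra -/
abbrev QB : Type u := Q A i.S i.EB

/-- the second algebra -/
abbrev QC : Type u := Q A i.SC i.EC

theorem inl_mem {b : VB A B} (h : b ∈ i.S) : Sum.inl b ∈ i.SC := Finset.inl_mem_disjSum.2 h

/-- the map -/
def τ : i.QB →ₐ[A] i.QC :=
  trans Sum.inl (fun _ h => i.inl_mem h) fun e he => Or.inl (Or.inl (Or.inl ⟨e, he, rfl⟩))

/-- to `B` -/
def toB : i.QB →ₐ[A] B := toPt (evB A B) i.eval_EB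

/-- to `C` -/
def toC : i.QC →ₐ[A] C := toPt (evC A B C) i.eval_EC

theorem toC_τ : i.toC.comp i.τ = (IsScalarTower.toAlgHom A B C).comp i.toB := algHom_ext fun v => by
  simp only [AlgHom.comp_apply, τ, toB, toC, trans_X, toPt_X]
  rfl

instance : LE (Idx A B C) := ⟨fun i j => i.S ⊆ j.S ∧ i.T ⊆ j.T ∧ i.RB ⊆ j.RB ∧ i.RC ⊆ j.RC⟩

instance : Preorder (Idx A B C) where
  le_refl _ := ⟨subset_rfl, subset_rfl, subset_rfl, subset_rfl⟩
  le_trans _ _ _ h g := ⟨h.1.trans g.1, h.2.1.trans g.2.1, h.2.2.1.trans g.2.2.1, h.2.2.2.trans g.2.2.2⟩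

theorem EB_mono {i j : Idx A B C} (h : i ≤ j) : i.EB ⊆ j.EB :=
  Set.union_subset_union (Set.image_mono h.1) h.2.2.1

theorem SC_mono {i j : Idx A B C} (h : i ≤ j) : i.SC ⊆ j.SC := Finset.disjSum_mono h.1 h.2.1

theorem EC_mono {i j : Idx A B C} (h : i ≤ j) : i.EC ⊆ j.EC :=
  Set.union_subset_union (Set.union_subset_union (Set.union_subset_union (Set.image_mono (EB_mono h))
    (Set.image_mono (SC_mono h))) (Set.image_mono fun _ hb => h.1 hb)) h.2.2.2

/-- transition maps of the first algebras -/
def transB {i j : Idx A B C} (h : i ≤ j) : i.QB →ₐ[A] j.QB :=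
  trans id (fun _ hv => h.1 hv) fun e he => by rw [rename_id, AlgHom.id_apply]; exact EB_mono h he

/-- transition maps of the second algebras -/
def transC {i j : Idx A B C} (h : i ≤ j) : i.QC →ₐ[A] j.QC :=
  trans id (fun _ hv => SC_mono h hv) fun e he => by rw [rename_id, AlgHom.id_apply]; exact EC_mono h he

/-- the kernel of `QB → QC` is nilpotent as soon as that of `B → C` is -/
def Good : Prop :=
  ∀ h : Function.Surjective (algebraMap B C) ∧ IsNilpotent (RingHom.ker (algebraMap B C)),
    RingHom.ker i.τ ^ (h.2.choose + 1) = ⊥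

theorem algebraMap_surjective_B (h : Function.Surjective (algebraMap A B)) :
    Function.Surjective (algebraMap A i.QB) :=
  algebraMap_surjective fun v _ => absurd (h v.1) v.2

theorem algebraMap_surjective_C (h : Function.Surjective (algebraMap A C)) :
    Function.Surjective (algebraMap A i.QC) :=
  algebraMap_surjective fun v hv => by
    rcases v with b | c
    · exact ⟨(h (algebraMap B C b.1)).choose,
        Or.inl (Or.inr ⟨⟨b, h (algebraMap B C b.1)⟩, Finset.inl_mem_disjSum.1 hv, rfl⟩)⟩
    · obtain ⟨a, ha⟩ := h c.1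
      exact absurd ⟨algebraMap A B a, by rw [← IsScalarTower.algebraMap_apply, ha]⟩ c.2

theorem rename_inl_surjective (h : Function.Surjective (algebraMap B C)) :
    Function.Surjective (rename (fun v : i.S => (⟨Sum.inl v.1, i.inl_mem v.2⟩ : i.SC)) :
      MvPolynomial i.S A → MvPolynomial i.SC A) :=
  rename_surjective _ fun v => by
    rcases v with ⟨b | c, hv⟩
    · exact ⟨⟨b, Finset.inl_mem_disjSum.1 hv⟩, rfl⟩
    · exact absurd (h c.1) c.2

theorem τ_surjective (h : Function.Surjective (algebraMap B C)) : Function.Surjective i.τ := fun y => by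
  obtain ⟨p, rfl⟩ := qmk_surjective A i.SC i.EC y
  obtain ⟨q, rfl⟩ := i.rename_inl_surjective h p
  exact ⟨qmk A i.S i.EB q, rfl⟩

theorem exists_good_ge : ∃ j, i ≤ j ∧ j.Good := by
  classical
  by_cases h : Function.Surjective (algebraMap B C) ∧ IsNilpotent (RingHom.ker (algebraMap B C))
  swap
  · exact ⟨i, le_rfl, fun h' => absurd h' h⟩
  set n := h.2.choose + 1 with hn
  have hpow : RingHom.ker (algebraMap B C) ^ n = ⊥ := by
    rw [hn, pow_succ, h.2.choose_spec]; simp
  -- the generators of the kernel on the polynomial level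
  set r := rename (fun v : i.S => (⟨Sum.inl v.1, i.inl_mem v.2⟩ : i.SC)) (R := A) with hr
  let s : Set (MvPolynomial i.S A) := r ⁻¹' supp A i.SC i.EC
  have hrinj : Function.Injective r :=
    rename_injective _ fun v w e => Subtype.ext (Sum.inl_injective (congrArg Subtype.val e))
  have hsfin : s.Finite := (supp_finite i.finite_EC).preimage hrinj.injOn
  haveI : Finite s := hsfin
  let prod : Set (MvPolynomial i.S A) := Set.range fun f : Fin n → s => ∏ t, (f t).1
  have hprod : prod.Finite := Set.finite_range _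
  have hs : ∀ g ∈ s, aeval (fun v : i.S => evB A B v.1) g ∈ RingHom.ker (algebraMap B C) := fun g hg => by
    have h1 : aeval (evC A B C) (rename Subtype.val (r g)) = 0 := i.eval_EC _ hg
    rw [hr, rename_rename, aeval_rename] at h1
    rw [RingHom.mem_ker, ← h1]
    exact (congrArg (fun φ : MvPolynomial i.S A →ₐ[A] C => φ g)
      (comp_aeval (f := fun v : i.S => evB A B v.1) (IsScalarTower.toAlgHom A B C)))
  let new : Finset (MvPolynomial (VB A B) A) := hprod.toFinset.image (rename Subtype.val)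
  have hnew : ∀ e ∈ new, aeval (evB A B) e = 0 := fun e he => by
    obtain ⟨p, hp, rfl⟩ := Finset.mem_image.1 he
    obtain ⟨f, rfl⟩ := hprod.mem_toFinset.1 hp
    rw [aeval_rename, map_prod, ← Submodule.mem_bot (R := B), ← hpow]
    convert Ideal.prod_mem_prod (s := (Finset.univ : Finset (Fin n)))
      (x := fun t => aeval (evB A B ∘ Subtype.val) (f t).1) (fun t _ => hs _ (f t).2) using 1
    simp
  let j : Idx A B C := ⟨i.S, i.T, i.RB ∪ new, i.RC,
    fun e he => (Finset.mem_union.1 he).elim (i.okB e) (hnew e), i.okC⟩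
  have hij : i ≤ j := ⟨subset_rfl, subset_rfl, Finset.subset_union_left, subset_rfl⟩
  refine ⟨j, hij, fun h' => ?_⟩
  have hker : RingHom.ker j.τ ≤ Ideal.map (qmk A j.S j.EB) (Ideal.span s) := by
    intro x hx
    obtain ⟨p, rfl⟩ := qmk_surjective A j.S j.EB x
    refine Ideal.mem_map_of_mem _ ?_
    have hmem : r p ∈ rel A j.SC j.EC := qmk_eq_zero.1 hx
    -- the new relations lie in the span of the old ones
    have hle : rel A j.SC j.EC ≤ Ideal.map r (Ideal.span s) := by
      refine Ideal.span_le.2 fun q hq => ?_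
      obtain ⟨q, rfl⟩ := i.rename_inl_surjective h.1 q
      refine Ideal.mem_map_of_mem _ ?_
      rcases hq with ((hq | hq) | hq) | hq
      · obtain ⟨e, he, hee⟩ := hq
        rcases he with he | he
        · exact Ideal.subset_span (Or.inl (Or.inl (Or.inl ⟨e, Or.inl he, hee⟩)))
        rcases Finset.mem_union.1 he with he | he
        · exact Ideal.subset_span (Or.inl (Or.inl (Or.inl ⟨e, Or.inr he, hee⟩)))
        obtain ⟨p', hp', rfl⟩ := Finset.mem_image.1 he
        obtain ⟨f, rfl⟩ := hprod.mem_toFinset.1 hp'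
        have : q = ∏ t, (f t).1 := by
          refine rename_injective (fun v : i.S => (Sum.inl v.1 : VB A B ⊕ VC B C))
            (fun v w e => Subtype.ext (Sum.inl_injective e)) ?_
          rw [rename_rename] at hee
          exact Eq.trans (rename_rename (fun v : i.S => (⟨Sum.inl v.1, i.inl_mem v.2⟩ : i.SC)) Subtype.val q).symm
            hee.symm
        rw [this, Fin.prod_univ_succ]
        exact Ideal.mul_mem_right _ _ (Ideal.subset_span (f 0).2)
      · exact Ideal.subset_span (Or.inl (Or.inl (Or.inr hq)))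
      · exact Ideal.subset_span (Or.inl (Or.inr hq))
      · exact Ideal.subset_span (Or.inr hq)
    obtain ⟨p', hp', he⟩ := (Ideal.mem_map_iff_of_surjective r (i.rename_inl_surjective h.1)).1 (hle hmem)
    rwa [← hrinj he]
  refine eq_bot_iff.2 ((Ideal.pow_right_mono hker _).trans ?_)
  rw [← Ideal.map_pow, Ideal.span, Submodule.span_pow, Ideal.map_le_iff_le_comap, Submodule.span_le]
  intro p hp
  obtain ⟨f, rfl⟩ := Set.mem_pow.1 hp
  show qmk A j.S j.EB _ ∈ (⊥ : Ideal j.QB)
  rw [Ideal.mem_bot, qmk_eq_zero]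
  refine Ideal.subset_span (Or.inr (Finset.mem_union_right _ (Finset.mem_image.2 ⟨_, hprod.mem_toFinset.2
    ⟨f, (List.prod_ofFn (f := fun t => (f t).1)).symm⟩, rfl⟩)))

end Idx

variable (A B C)

/-- the index category -/
def Ix : Type u := {i : Idx A B C // i.Good}

instance : Preorder (Ix A B C) := inferInstanceAs (Preorder {i : Idx A B C // i.Good})

theorem Ix.exists_ge (i : Idx A B C) : ∃ k : Ix A B C, i ≤ k.1 := by
  obtain ⟨j, h, hj⟩ := i.exists_good_ge
  exact ⟨⟨j, hj⟩, h⟩

instance : Nonempty (Ix A B C) :=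
  ⟨(Ix.exists_ge A B C ⟨∅, ∅, ∅, ∅, by simp, by simp⟩).choose⟩

instance : IsDirectedOrder (Ix A B C) := ⟨fun i j => by
  classical
  obtain ⟨k, hk⟩ := Ix.exists_ge A B C ⟨i.1.S ∪ j.1.S, i.1.T ∪ j.1.T, i.1.RB ∪ j.1.RB, i.1.RC ∪ j.1.RC,
    fun e he => (Finset.mem_union.1 he).elim (i.1.okB e) (j.1.okB e),
    fun e he => (Finset.mem_union.1 he).elim (i.1.okC e) (j.1.okC e)⟩
  exact ⟨k, ⟨Finset.subset_union_left.trans hk.1, Finset.subset_union_left.trans hk.2.1,
    Finset.subset_union_left.trans hk.2.2.1, Finset.subset_union_left.trans hk.2.2.2⟩,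
    ⟨Finset.subset_union_right.trans hk.1, Finset.subset_union_right.trans hk.2.1,
    Finset.subset_union_right.trans hk.2.2.1, Finset.subset_union_right.trans hk.2.2.2⟩⟩⟩

/-- the diagram of first algebras -/
def DB : Ix A B C ⥤ Under (CommRingCat.of A) where
  obj i := CommRingCat.mkUnder (CommRingCat.of A) i.1.QB
  map {i j} f := (Idx.transB (leOfHom f : i.1 ≤ j.1)).toUnder
  map_id i := by
    have : Idx.transB (leOfHom (𝟙 i) : i.1 ≤ i.1) = AlgHom.id A _ := algHom_ext fun x => trans_X _ _ _ _
    ext a; exact AlgHom.congr_fun this a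
  map_comp {i j k} f g := by
    have : Idx.transB (leOfHom (f ≫ g) : i.1 ≤ k.1) =
        (Idx.transB (leOfHom g : j.1 ≤ k.1)).comp (Idx.transB (leOfHom f : i.1 ≤ j.1)) := algHom_ext fun x => by
      simp only [AlgHom.comp_apply, Idx.transB, trans_X]; rfl
    ext a; exact AlgHom.congr_fun this a

/-- the diagram of second algebras -/
def DC : Ix A B C ⥤ Under (CommRingCat.of A) where
  obj i := CommRingCat.mkUnder (CommRingCat.of A) i.1.QC
  map {i j} f := (Idx.transC (leOfHom f : i.1 ≤ j.1)).toUnder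
  map_id i := by
    have : Idx.transC (leOfHom (𝟙 i) : i.1 ≤ i.1) = AlgHom.id A _ := algHom_ext fun x => trans_X _ _ _ _
    ext a; exact AlgHom.congr_fun this a
  map_comp {i j k} f g := by
    have : Idx.transC (leOfHom (f ≫ g) : i.1 ≤ k.1) =
        (Idx.transC (leOfHom g : j.1 ≤ k.1)).comp (Idx.transC (leOfHom f : i.1 ≤ j.1)) := algHom_ext fun x => by
      simp only [AlgHom.comp_apply, Idx.transC, trans_X]; rfl
    ext a; exact AlgHom.congr_fun this a

/-- the morphism of diagrams -/
def τD : DB A B C ⟶ DC A B C where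
  app i := i.1.τ.toUnder
  naturality i j f := by
    have : j.1.τ.comp (Idx.transB (leOfHom f : i.1 ≤ j.1)) =
        (Idx.transC (leOfHom f : i.1 ≤ j.1)).comp i.1.τ := algHom_ext fun x => by
      simp only [AlgHom.comp_apply, Idx.transB, Idx.transC, Idx.τ, trans_X]; rfl
    ext a; exact AlgHom.congr_fun this a

/-- the first cocone -/
def cB : DB A B C ⟶ (Functor.const _).obj (CommRingCat.mkUnder (CommRingCat.of A) B) where
  app i := i.1.toB.toUnder
  naturality i j f := by
    have : j.1.toB.comp (Idx.transB (leOfHom f : i.1 ≤ j.1)) = i.1.toB := algHom_ext fun x => by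
      simp only [AlgHom.comp_apply, Idx.transB, Idx.toB, trans_X, toPt_X]; rfl
    ext a; exact AlgHom.congr_fun this a

/-- the second cocone -/
def cC : DC A B C ⟶ (Functor.const _).obj (CommRingCat.mkUnder (CommRingCat.of A) C) where
  app i := i.1.toC.toUnder
  naturality i j f := by
    have : j.1.toC.comp (Idx.transC (leOfHom f : i.1 ≤ j.1)) = i.1.toC := algHom_ext fun x => by
      simp only [AlgHom.comp_apply, Idx.transC, Idx.toC, trans_X, toPt_X]; rfl
    ext a; exact AlgHom.congr_fun this a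

theorem nonempty_isColimit_cB : Nonempty (IsColimit (Cocone.mk _ (cB A B C))) := by
  classical
  refine nonempty_isColimit_under A _ _ (fun (b : B) => ?_) (fun i (y : i.1.QB) hy => ?_)
  · by_cases hb : b ∈ Set.range (algebraMap A B)
    · obtain ⟨a, rfl⟩ := hb
      obtain ⟨i⟩ := (inferInstance : Nonempty (Ix A B C))
      exact ⟨i, algebraMap A i.1.QB a, i.1.toB.commutes a⟩
    · obtain ⟨k, hk⟩ := Ix.exists_ge A B C ⟨{⟨b, hb⟩}, ∅, ∅, ∅, by simp, by simp⟩
      exact ⟨k, qmk A k.1.S k.1.EB (X ⟨⟨b, hb⟩, hk.1 (Finset.mem_singleton_self _)⟩), toPt_X (evB A B) k.1.eval_EB _⟩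
  · obtain ⟨p, rfl⟩ := qmk_surjective A i.1.S i.1.EB y
    obtain ⟨k, hk⟩ := Ix.exists_ge A B C ⟨i.1.S, i.1.T, insert (rename Subtype.val p) i.1.RB, i.1.RC,
      fun e he => (Finset.mem_insert.1 he).elim (fun h => h ▸ (by rw [aeval_rename]; exact hy)) (i.1.okB e),
      i.1.okC⟩
    have hik : i.1 ≤ k.1 := ⟨hk.1, hk.2.1, (Finset.subset_insert _ _).trans hk.2.2.1, hk.2.2.2⟩
    refine ⟨k, homOfLE hik, ?_⟩
    refine qmk_eq_zero.2 (Ideal.subset_span (Or.inr ?_))
    show rename Subtype.val (rename _ p) ∈ k.1.RB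
    rw [rename_rename]
    exact hk.2.2.1 (Finset.mem_insert_self _ _)

theorem nonempty_isColimit_cC : Nonempty (IsColimit (Cocone.mk _ (cC A B C))) := by
  classical
  refine nonempty_isColimit_under A _ _ (fun (c : C) => ?_) (fun i (y : i.1.QC) hy => ?_)
  · by_cases hc : c ∈ Set.range (algebraMap B C)
    · obtain ⟨b, rfl⟩ := hc
      by_cases hb : b ∈ Set.range (algebraMap A B)
      · obtain ⟨a, rfl⟩ := hb
        obtain ⟨i⟩ := (inferInstance : Nonempty (Ix A B C))
        exact ⟨i, algebraMap A i.1.QC a, (i.1.toC.commutes a).trans (IsScalarTower.algebraMap_apply A B C a)⟩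
      · obtain ⟨k, hk⟩ := Ix.exists_ge A B C ⟨{⟨b, hb⟩}, ∅, ∅, ∅, by simp, by simp⟩
        exact ⟨k, qmk A k.1.SC k.1.EC
          (X ⟨Sum.inl ⟨b, hb⟩, k.1.inl_mem (hk.1 (Finset.mem_singleton_self _))⟩), toPt_X (evC A B C) k.1.eval_EC _⟩
    · obtain ⟨k, hk⟩ := Ix.exists_ge A B C ⟨∅, {⟨c, hc⟩}, ∅, ∅, by simp, by simp⟩
      exact ⟨k, qmk A k.1.SC k.1.EC
        (X ⟨Sum.inr ⟨c, hc⟩, Finset.inr_mem_disjSum.2 (hk.2.1 (Finset.mem_singleton_self _))⟩), toPt_X (evC A B C) k.1.eval_EC _⟩
  · obtain ⟨p, rfl⟩ := qmk_surjective A i.1.SC i.1.EC y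
    obtain ⟨k, hk⟩ := Ix.exists_ge A B C ⟨i.1.S, i.1.T, i.1.RB, insert (rename Subtype.val p) i.1.RC, i.1.okB,
      fun e he => (Finset.mem_insert.1 he).elim (fun h => h ▸ (by rw [aeval_rename]; exact hy)) (i.1.okC e)⟩
    have hik : i.1 ≤ k.1 := ⟨hk.1, hk.2.1, hk.2.2.1, (Finset.subset_insert _ _).trans hk.2.2.2⟩
    refine ⟨k, homOfLE hik, ?_⟩
    refine qmk_eq_zero.2 (Ideal.subset_span (Or.inr ?_))
    show rename Subtype.val (rename _ p) ∈ k.1.RC
    rw [rename_rename]
    exact hk.2.2.2 (Finset.mem_insert_self _ _)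

end Groth.Agent.ColimIntPair
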